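import Groth.Agent.FFDescLib.Basic
import Mathlib.AlgebraicGeometry.IdealSheaf.Subscheme
import Mathlib.AlgebraicGeometry.Morphisms.ClosedImmersion
import Mathlib.RingTheory.Spectrum.Prime.Topology

/-!
# Closures of images of quasi-compact morphisms
-/

universe u

open AlgebraicGeometry CategoryTheory CategoryTheory.Limits TopologicalSpace

namespace FFDescLib

variable {X Y : Scheme.{u}} (f : X ⟶ Y)

theorem exists_specializes_of_mem_closure_range [QuasiCompact f] {y : Y} (hy : y ∈ closure (Set.range f)) :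
    ∃ x : X, f x ⤳ y := by
  obtain ⟨U, hU, hyU, -⟩ := exists_isAffineOpen_mem_and_subset (X := Y) (x := y) (U := ⊤) trivial
  haveI : IsAffine U.toScheme := hU
  haveI : CompactSpace (f ⁻¹ᵁ U).toScheme := QuasiCompact.compactSpace_of_compactSpace (f ∣_ U)
  obtain ⟨R, t, ht⟩ := (compactSpace_iff_exists (X := (f ⁻¹ᵁ U).toScheme)).1 inferInstance
  obtain ⟨φ, hφ⟩ := Spec.map_surjective (t ≫ (f ∣_ U) ≫ hU.isoSpec.hom)
  have hcomp : Spec.map φ ≫ hU.fromSpec = t ≫ (f ⁻¹ᵁ U).ι ≫ f := by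
    rw [hφ, Category.assoc, Category.assoc, IsAffineOpen.isoSpec_hom_fromSpec, morphismRestrict_ι]
  obtain ⟨q, hq⟩ := hU.range_fromSpec.ge hyU
  have hq' : q ∈ closure (Set.range (Spec.map φ)) := by
    rw [mem_closure_iff]
    intro o ho hqo
    have ho' : IsOpen (hU.fromSpec '' o) := hU.fromSpec.isOpenEmbedding.isOpenMap _ ho
    obtain ⟨_, ⟨w, hw, rfl⟩, x, hx⟩ := mem_closure_iff.1 hy _ ho' ⟨q, hqo, hq⟩
    have hxU : x ∈ f ⁻¹ᵁ U := by
      show f x ∈ U
      rw [hx, ← SetLike.mem_coe, ← hU.range_fromSpec]; exact ⟨w, rfl⟩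
    obtain ⟨z, hz⟩ := ht ⟨x, hxU⟩
    refine ⟨w, hw, z, hU.fromSpec.isOpenEmbedding.injective ?_⟩
    rw [← Scheme.Hom.comp_apply, hcomp, Scheme.Hom.comp_apply, Scheme.Hom.comp_apply, hz]
    exact hx
  have h0 : RingHom.ker φ.hom ≤ q.asIdeal := by
    have : q ∈ PrimeSpectrum.zeroLocus (RingHom.ker φ.hom : Set Γ(Y, U)) := by
      rw [← PrimeSpectrum.closure_range_comap]; exact hq'
    exact this
  haveI := q.isPrime
  obtain ⟨p, hp₁, hp₂⟩ := Ideal.exists_minimalPrimes_le h0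
  obtain ⟨p', hp', -, rfl⟩ := Ideal.exists_comap_eq_of_mem_minimalPrimes φ.hom (I := ⊥) p
    (by rwa [← RingHom.ker_eq_comap_bot])
  let z : Spec R := ⟨p', hp'⟩
  refine ⟨(f ⁻¹ᵁ U).ι (t z), ?_⟩
  have hs : Spec.map φ z ⤳ q := (PrimeSpectrum.le_iff_specializes _ _).1 hp₂
  have := hs.map hU.fromSpec.continuous
  rwa [hq, ← Scheme.Hom.comp_apply, hcomp] at this

theorem exists_specializes_of_mem_closure_image [QuasiCompact f] {s : Set X} (hs : IsClosed s) {y : Y}
    (hy : y ∈ closure (f '' s)) : ∃ x ∈ s, f x ⤳ y := by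
  let I := Scheme.IdealSheafData.vanishingIdeal (⟨s, hs⟩ : TopologicalSpace.Closeds X)
  have hr : Set.range I.subschemeι = s := by
    rw [Scheme.IdealSheafData.range_subschemeι, Scheme.IdealSheafData.coe_support_vanishingIdeal]; rfl
  obtain ⟨z, hz⟩ := exists_specializes_of_mem_closure_range (I.subschemeι ≫ f) (y := y) (by
    rw [Scheme.Hom.comp_base, TopCat.coe_comp, Set.range_comp, hr]; exact hy)
  exact ⟨I.subschemeι z, hr ▸ ⟨z, rfl⟩, hz⟩

theorem exists_nhd_of_maximal [QuasiCompact f] (η : Y) (hη : closure {η} ∈ irreducibleComponents (Y : Type u))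
    (hnot : η ∉ Set.range f) : ∃ V : Y.Opens, η ∈ V ∧ f ⁻¹ᵁ V = ⊥ := by
  have hn : η ∉ closure (Set.range f) := fun h => by
    obtain ⟨x, hx⟩ := exists_specializes_of_mem_closure_range f h
    have h1 : closure {η} ⊆ closure {f x} := (specializes_iff_closure_subset.1 hx)
    have h2 : closure {f x} ⊆ closure {η} :=
      hη.2 (isIrreducible_singleton.closure) h1
    have : f x = η := (specializes_iff_closure_subset.2 h2 |>.antisymm hx).eq.symm
    exact hnot ⟨x, this⟩
  refine ⟨⟨(closure (Set.range f))ᶜ, isClosed_closure.isOpen_compl⟩, hn, ?_⟩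
  ext x
  simp only [Opens.coe_bot, Set.mem_empty_iff_false, iff_false]
  exact fun hx => hx (subset_closure ⟨x, rfl⟩)

theorem isEmbedding_of_pullback {Y' : Scheme.{u}} (g : Y' ⟶ Y) [QuasiCompact f] [Flat g] [Surjective g]
    (h : Topology.IsEmbedding (pullback.snd f g)) : Topology.IsEmbedding f := by
  have hinj : Function.Injective f :=
    injective_of_pullback f fun y => ⟨Y', g, g.surjective y, h.injective⟩
  have key : ∀ (s : Set X), IsClosed s → f ⁻¹' closure (f '' s) = s := fun s hs => by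
    refine subset_antisymm (fun x hx => ?_) fun x hx => subset_closure ⟨x, hx, rfl⟩
    obtain ⟨z, hz, hzx⟩ := exists_specializes_of_mem_closure_image f hs hx
    obtain ⟨y', hy'⟩ := g.surjective (f x)
    rw [← hy'] at hzx
    obtain ⟨y₁, hy₁, hgy₁⟩ := (Flat.generalizingMap g) hzx
    obtain ⟨a, ha, ha'⟩ := Scheme.Pullback.exists_preimage_pullback (f := f) (g := g) z y₁ hgy₁.symm
    obtain ⟨b, hb, hb'⟩ := Scheme.Pullback.exists_preimage_pullback (f := f) (g := g) x y' hy'.symm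
    have hab : a ⤳ b := h.isInducing.specializes_iff.1 (by rw [ha', hb']; exact hy₁)
    exact (ha ▸ hb ▸ hab.map (pullback.fst f g).continuous).mem_closed hs hz
  refine ⟨?_, hinj⟩
  rw [Topology.isInducing_iff]
  refine le_antisymm f.continuous.le_induced fun o ho => ?_
  rw [isOpen_induced_iff]
  refine ⟨(closure (f '' oᶜ))ᶜ, isClosed_closure.isOpen_compl, ?_⟩
  rw [Set.preimage_compl, key _ (isClosed_compl_iff.2 ho), compl_compl]

theorem quasiCompact_of_pullback_of_isOpenMap {X' Y' : Scheme.{u}} (g : Y' ⟶ Y) [Surjective g]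
    (hg : IsOpenMap g) (g' : X' ⟶ X) (f' : X' ⟶ Y') (hsq : IsPullback g' f' f g) [QuasiCompact f'] :
    QuasiCompact f := by
  rw [quasiCompact_iff_forall_isAffineOpen]
  intro U hU
  choose y' hy' using fun y : U => g.surjective y.1
  choose V hVaff hVmem hVle using fun y : U => exists_isAffineOpen_mem_and_subset (x := y' y) (U := g ⁻¹ᵁ U)
    (show g (y' y) ∈ U by rw [hy']; exact y.2)
  obtain ⟨t, ht⟩ := hU.isCompact.elim_finite_subcover (fun y : U => g '' (V y : Set Y')) (fun y => hg _ (V y).2)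
    fun y hy => Set.mem_iUnion.2 ⟨⟨y, hy⟩, y' ⟨y, hy⟩, hVmem _, hy' _⟩
  have hc : IsCompact (⋃ y ∈ t, g' '' (f' ⁻¹' (V y : Set Y'))) :=
    t.isCompact_biUnion fun y _ => (f'.isCompact_preimage (hVaff y).isCompact).image g'.continuous
  convert hc using 1
  ext x
  simp only [Set.mem_iUnion, Set.mem_image, Set.mem_preimage]
  constructor
  · intro hx
    obtain ⟨y, hy, v, hv, hgv⟩ : ∃ y ∈ t, ∃ v ∈ V y, g v = f x := by simpa using ht hx
    obtain ⟨a, rfl, rfl⟩ := Scheme.exists_preimage_of_isPullback hsq x v hgv.symm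
    exact ⟨y, hy, a, hv, rfl⟩
  · rintro ⟨y, hy, a, ha, rfl⟩
    show f (g' a) ∈ U
    rw [← Scheme.Hom.comp_apply, hsq.w]
    exact hVle y ha

theorem isDominant_of_isPullback_of_isOpenMap {X' Y' : Scheme.{u}} [IsDominant f] (g : Y' ⟶ Y)
    (g' : X' ⟶ X) (f' : X' ⟶ Y') (hsq : IsPullback g' f' f g) (hg : IsOpenMap g) : IsDominant f' := by
  refine ⟨dense_iff_inter_open.2 fun W hW ⟨w, hw⟩ => ?_⟩
  obtain ⟨_, ⟨v, hv, rfl⟩, x, hx⟩ := dense_iff_inter_open.1 f.denseRange _ (hg _ hW) ⟨g w, w, hw, rfl⟩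
  obtain ⟨a, -, rfl⟩ := Scheme.exists_preimage_of_isPullback hsq x v hx
  exact ⟨f' a, hv, a, rfl⟩

theorem isDominant_of_isPullback_of_generalizingMap {X' Y' : Scheme.{u}} [QuasiCompact f] [IsDominant f]
    (g : Y' ⟶ Y) (g' : X' ⟶ X) (f' : X' ⟶ Y') (hsq : IsPullback g' f' f g) (hg : GeneralizingMap g) :
    IsDominant f' := by
  refine ⟨dense_iff_inter_open.2 fun W hW ⟨w, hw⟩ => ?_⟩
  obtain ⟨x, hx⟩ := exists_specializes_of_mem_closure_range f (y := g w) (by
    rw [f.denseRange.closure_range]; trivial)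
  obtain ⟨w', hw', hgw'⟩ := hg hx
  obtain ⟨a, -, rfl⟩ := Scheme.exists_preimage_of_isPullback hsq x w' hgw'.symm
  exact ⟨f' a, hw'.mem_open hW hw, a, rfl⟩

end FFDescLib
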