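import Mathlib.AlgebraicGeometry.Morphisms.FlatMono
import Mathlib.AlgebraicGeometry.Morphisms.Etale
import Mathlib.AlgebraicGeometry.Morphisms.UniversallyInjective
import Mathlib.AlgebraicGeometry.Morphisms.IsIso
import Mathlib.CategoryTheory.MorphismProperty.Limits

/-!
# Graphs of morphisms to étale schemes
-/

universe u

open AlgebraicGeometry CategoryTheory CategoryTheory.Limits

namespace FFDescLib

variable {S X Y : Scheme.{u}}

theorem isOpenImmersion_of_section (h : Y ⟶ X) [FormallyUnramified h] [LocallyOfFiniteType h]
    (s : X ⟶ Y) (hs : s ≫ h = 𝟙 X) : IsOpenImmersion s := by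
  let W : MorphismProperty Scheme.{u} := @FormallyUnramified ⊓ @LocallyOfFiniteType
  haveI : W.IsStableUnderBaseChange :=
    ⟨fun sq hg => ⟨MorphismProperty.of_isPullback (P := @FormallyUnramified) sq hg.1,
      MorphismProperty.of_isPullback (P := @LocallyOfFiniteType) sq hg.2⟩⟩
  haveI : MorphismProperty.HasOfPostcompProperty (@IsOpenImmersion : MorphismProperty Scheme.{u}) W :=
    MorphismProperty.hasOfPostcompProperty_iff_le_diagonal.2 fun A B f hf => by
      haveI : FormallyUnramified f := hf.1
      haveI : LocallyOfFiniteType f := hf.2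
      show IsOpenImmersion (pullback.diagonal f)
      infer_instance
  exact MorphismProperty.of_postcomp (W := (@IsOpenImmersion : MorphismProperty Scheme.{u})) (W' := W) s h
    ⟨‹_›, ‹_›⟩ (by rw [hs]; infer_instance)

theorem isIso_of_etale_univInjective_surjective (h : Y ⟶ X) [Etale h] [UniversallyInjective h] [Surjective h] :
    IsIso h := by
  haveI : Surjective (pullback.diagonal h) := (UniversallyInjective.iff_diagonal h).1 inferInstance
  haveI : IsIso (pullback.diagonal h) :=
    (isIso_iff_isOpenImmersion_and_surjective _).2 ⟨inferInstance, inferInstance⟩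
  haveI : Mono h := (pullback.isIso_diagonal_iff h).1 inferInstance
  haveI := IsOpenImmersion.of_flat_of_mono h
  exact (isIso_iff_isOpenImmersion_and_surjective h).2 ⟨inferInstance, inferInstance⟩

end FFDescLib
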