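import Groth.Agent.AlgSpLib.ReducedStalk
import Mathlib.AlgebraicGeometry.Morphisms.FlatDescent
import Mathlib.AlgebraicGeometry.Morphisms.UniversallyOpen

/-!
# Descent along faithfully flat morphisms which need not be quasi-compact
-/

universe u

open AlgebraicGeometry CategoryTheory CategoryTheory.Limits

namespace FFDescLib

variable {X Y Y' : Scheme.{u}} (f : X ⟶ Y)

theorem injective_of_pullback (h : ∀ y : Y, ∃ (Y' : Scheme.{u}) (g : Y' ⟶ Y),
      y ∈ Set.range g ∧ Function.Injective (pullback.snd f g)) : Function.Injective f := by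
  intro x x' e
  obtain ⟨Y', g, ⟨y', hy'⟩, hi⟩ := h (f x)
  obtain ⟨a, ha, ha'⟩ := Scheme.Pullback.exists_preimage_pullback (f := f) (g := g) x y' hy'.symm
  obtain ⟨b, hb, hb'⟩ := Scheme.Pullback.exists_preimage_pullback (f := f) (g := g) x' y' (e ▸ hy'.symm)
  rw [← ha, ← hb, hi (ha'.trans hb'.symm)]

theorem surjective_of_pullback (h : ∀ y : Y, ∃ (Y' : Scheme.{u}) (g : Y' ⟶ Y),
      y ∈ Set.range g ∧ Function.Surjective (pullback.snd f g)) : Function.Surjective f := by
  intro y
  obtain ⟨Y', g, ⟨y', rfl⟩, hs⟩ := h y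
  obtain ⟨a, rfl⟩ := hs y'
  exact ⟨pullback.fst f g a, by rw [← Scheme.Hom.comp_apply, pullback.condition]; rfl⟩

/-- Lifting of a specialization along a base change with closed second projection. -/
theorem exists_specializes {Y' : Scheme.{u}} (g : Y' ⟶ Y) [Flat g]
    (hc : SpecializingMap (pullback.snd f g)) (x : X) (y' : Y') (h : f x ⤳ g y') :
    ∃ x₁, x ⤳ x₁ ∧ f x₁ = g y' := by
  obtain ⟨z', hz, hgz⟩ := (Flat.generalizingMap g) h
  obtain ⟨a, ha, ha'⟩ := Scheme.Pullback.exists_preimage_pullback (f := f) (g := g) x z' hgz.symm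
  obtain ⟨b, hab, hb⟩ := hc (show pullback.snd f g a ⤳ y' from ha' ▸ hz)
  refine ⟨pullback.fst f g b, ha ▸ hab.map (pullback.fst f g).continuous, ?_⟩
  rw [← Scheme.Hom.comp_apply, pullback.condition, Scheme.Hom.comp_apply, hb]

theorem isClosedMap_of_pullback [QuasiCompact f] (h : ∀ y : Y, ∃ (Y' : Scheme.{u}) (g : Y' ⟶ Y),
      Flat g ∧ y ∈ Set.range g ∧ IsClosedMap (pullback.snd f g)) : IsClosedMap f := by
  rw [isClosedMap_iff_specializingMap]
  intro x y hxy
  obtain ⟨Y', g, hg, ⟨y', rfl⟩, hc⟩ := h y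
  exact exists_specializes f g hc.specializingMap x y' hxy

theorem isHomeomorph_of_pullback [QuasiCompact f] (h : ∀ y : Y, ∃ (Y' : Scheme.{u}) (g : Y' ⟶ Y),
      Flat g ∧ y ∈ Set.range g ∧ IsHomeomorph (pullback.snd f g)) : IsHomeomorph f := by
  refine isHomeomorph_iff_continuous_isClosedMap_bijective.2 ⟨f.continuous,
    isClosedMap_of_pullback f fun y => ?_, injective_of_pullback f fun y => ?_, surjective_of_pullback f fun y => ?_⟩
  all_goals obtain ⟨Y', g, hg, hy, hh⟩ := h y
  · exact ⟨Y', g, hg, hy, hh.isClosedMap⟩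
  · exact ⟨Y', g, hy, hh.injective⟩
  · exact ⟨Y', g, hy, hh.surjective⟩

theorem isIso_stalkMap_of_flat {P Q : Scheme.{u}} (q : P ⟶ Q) [Flat q] [SurjectiveOnStalks q] (t : P) :
    IsIso (q.stalkMap t) := by
  letI := (q.stalkMap t).hom.toAlgebra
  haveI : Module.Flat (Q.presheaf.stalk (q t)) (P.presheaf.stalk t) := Flat.stalkMap (f := q) t
  haveI : IsLocalHom (algebraMap (Q.presheaf.stalk (q t)) (P.presheaf.stalk t)) :=
    inferInstanceAs (IsLocalHom (q.stalkMap t).hom)
  haveI := Module.FaithfullyFlat.of_flat_of_isLocalHom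
    (A := Q.presheaf.stalk (q t)) (B := P.presheaf.stalk t)
  exact (ConcreteCategory.isIso_iff_bijective _).2
    ⟨FaithfulSMul.algebraMap_injective (Q.presheaf.stalk (q t)) (P.presheaf.stalk t), q.stalkMap_surjective t⟩

theorem isIso_snd_fromSpecStalk (g : Y' ⟶ Y) [Flat g] [IsIso (pullback.snd f g)] (y' : Y') :
    IsIso (pullback.snd f (Y.fromSpecStalk (g y'))) := by
  let h := Spec.map (g.stalkMap y')
  have hff : (g.stalkMap y').hom.FaithfullyFlat := by
    letI := (g.stalkMap y').hom.toAlgebra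
    haveI : Module.Flat (Y.presheaf.stalk (g y')) (Y'.presheaf.stalk y') := Flat.stalkMap (f := g) y'
    haveI : IsLocalHom (algebraMap (Y.presheaf.stalk (g y')) (Y'.presheaf.stalk y')) :=
      inferInstanceAs (IsLocalHom (g.stalkMap y').hom)
    exact Module.FaithfullyFlat.of_flat_of_isLocalHom
      (A := Y.presheaf.stalk (g y')) (B := Y'.presheaf.stalk y')
  have hfs : Flat h ∧ Surjective h := (flat_and_surjective_SpecMap_iff (g.stalkMap y')).2 hff
  obtain ⟨hfl, hs⟩ := hfs
  have w : h ≫ Y.fromSpecStalk (g y') = Y'.fromSpecStalk y' ≫ g := Scheme.SpecMap_stalkMap_fromSpecStalk g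
  let b := pullback.snd (pullback.snd f g) (Y'.fromSpecStalk y')
  have big : IsPullback (pullback.fst (pullback.snd f g) (Y'.fromSpecStalk y') ≫ pullback.fst f g) b f
      (h ≫ Y.fromSpecStalk (g y')) := by
    rw [w]
    exact (IsPullback.of_hasPullback (pullback.snd f g) (Y'.fromSpecStalk y')).paste_horiz
      (IsPullback.of_hasPullback f g) |>.of_iso (Iso.refl _) (Iso.refl _) (Iso.refl _) (Iso.refl _)
      (by simp [b]) (by simp [b]) (by simp) (by simp)
  have sq := IsPullback.of_hasPullback f (Y.fromSpecStalk (g y'))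
  let a := sq.lift _ (b ≫ h) (by rw [Category.assoc]; exact big.w)
  have small : IsPullback a b (pullback.snd f (Y.fromSpecStalk (g y'))) h :=
    IsPullback.of_right (by rw [sq.lift_fst]; exact big) (sq.lift_snd _ _ _) sq
  exact MorphismProperty.of_isPullback_of_descendsAlong (P := MorphismProperty.isomorphisms Scheme)
    (Q := @Surjective ⊓ @Flat ⊓ @QuasiCompact) small.flip ⟨⟨hs, hfl⟩, inferInstance⟩
    (inferInstanceAs (IsIso b))

theorem isIso_of_pullback [QuasiCompact f] (h : ∀ y : Y, ∃ (Y' : Scheme.{u}) (g : Y' ⟶ Y),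
      Flat g ∧ y ∈ Set.range g ∧ IsIso (pullback.snd f g)) : IsIso f := by
  have hh : IsHomeomorph f := isHomeomorph_of_pullback f fun y => by
    obtain ⟨Y', g, hg, hy, hi⟩ := h y
    exact ⟨Y', g, hg, hy, (pullback.snd f g).homeomorph.isHomeomorph⟩
  rw [isIso_iff_isIso_stalkMap]
  refine ⟨?_, fun x => ?_⟩
  · exact (TopCat.isIso_iff_isHomeomorph f.base).2 hh
  obtain ⟨Y', g, hg, ⟨y', hy'⟩, hi⟩ := h (f x)
  have := isIso_snd_fromSpecStalk f g y'
  have : Flat (Y.fromSpecStalk (g y')) := AlgSpLib.flat_fromSpecStalk _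
  obtain ⟨z, hz, -⟩ := Scheme.Pullback.exists_preimage_pullback (f := f) (g := Y.fromSpecStalk (g y')) x
    (IsLocalRing.closedPoint _) (by rw [Scheme.fromSpecStalk_closedPoint, hy'])
  subst hz
  let p := pullback.fst f (Y.fromSpecStalk (g y'))
  let k := pullback.snd f (Y.fromSpecStalk (g y'))
  haveI := isIso_stalkMap_of_flat p z
  haveI := isIso_stalkMap_of_flat (k ≫ Y.fromSpecStalk (g y')) z
  have h1 : IsIso ((p ≫ f).stalkMap z) := by
    rw [Scheme.Hom.stalkMap_congr_hom _ _ (pullback.condition) z]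
    infer_instance
  rw [Scheme.Hom.stalkMap_comp] at h1
  exact @IsIso.of_isIso_comp_right _ _ _ _ _ (f.stalkMap (p z)) (p.stalkMap z) (isIso_stalkMap_of_flat p z) h1

end FFDescLib
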