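import Groth.Agent.FFDescLib.Basic
import Groth.Agent.AlgSpLib.AffineDescent

/-!
# Descent of affineness along faithfully flat morphisms which need not be quasi-compact
-/

universe u

open AlgebraicGeometry CategoryTheory CategoryTheory.Limits

namespace FFDescLib

theorem isAffine_of_pullback {X Y Y' : Scheme.{u}} [IsAffine Y] [CompactSpace X] [QuasiSeparatedSpace X]
    (f : X ⟶ Y) (g : Y' ⟶ Y) [Flat g] [Surjective g] [IsAffineHom (pullback.snd f g)] : IsAffine X := by
  let β : Spec Γ(X, ⊤) ⟶ Y := Spec.map f.appTop ≫ Y.isoSpec.inv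
  let h := X.toSpecΓ
  have hw : h ≫ β = f := by
    simp only [β, h, ← Category.assoc, ← Scheme.toSpecΓ_naturality]
    simp [Scheme.isoSpec]
  haveI : IsIso h.appTop := by rw [Scheme.toSpecΓ_appTop]; infer_instance
  suffices IsIso h from ⟨this⟩
  refine isIso_of_pullback h fun q => ?_
  obtain ⟨y', hy'⟩ := g.surjective (β q)
  obtain ⟨i, v, rfl⟩ := Y'.affineCover.exists_eq y'
  let gV := Y'.affineCover.f i ≫ g
  obtain ⟨w, hw', -⟩ := Scheme.Pullback.exists_preimage_pullback (f := β) (g := gV) q v hy'.symm
  refine ⟨pullback β gV, pullback.fst β gV, inferInstance, ⟨w, hw'⟩, ?_⟩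
  -- the base change of `f` to the affine `V` is affine
  have top0 : IsPullback (pullback.fst (pullback.snd f g) (Y'.affineCover.f i) ≫ pullback.fst f g)
      (pullback.snd (pullback.snd f g) (Y'.affineCover.f i)) f gV :=
    (IsPullback.of_hasPullback (pullback.snd f g) (Y'.affineCover.f i)).paste_horiz (IsPullback.of_hasPullback f g)
  let W := pullback (pullback.snd f g) (Y'.affineCover.f i)
  let fst : W ⟶ X := pullback.fst (pullback.snd f g) (Y'.affineCover.f i) ≫ pullback.fst f g
  let snd : W ⟶ Y'.affineCover.X i := pullback.snd _ _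
  haveI : IsAffine W := isAffine_of_isAffineHom snd
  have sqP := IsPullback.of_hasPullback β gV
  let k : W ⟶ pullback β gV := sqP.lift (fst ≫ h) snd (by rw [Category.assoc, hw]; exact top0.w)
  have top : IsPullback fst k h (pullback.fst β gV) :=
    IsPullback.of_bot (by rw [sqP.lift_snd, hw]; exact top0) (sqP.lift_fst _ _ _).symm sqP
  have hP := AlgSpLib.isPushout_appTop_of_flat sqP
  have hW := AlgSpLib.isPushout_appTop_of_flat top0
  have e₁ : β.appTop ≫ h.appTop = f.appTop := by rw [← Scheme.Hom.comp_appTop, hw]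
  have hW' : IsPushout β.appTop gV.appTop (h.appTop ≫ fst.appTop) snd.appTop :=
    hW.of_iso (Iso.refl _) (asIso h.appTop).symm (Iso.refl _) (Iso.refl _)
      (by simp [← e₁]) (by simp) (by simp [fst]) (by simp [snd])
  have ek : (hP.isoIsPushout _ _ hW').hom = k.appTop := hP.hom_ext
    (by rw [IsPushout.inl_isoIsPushout_hom, ← Scheme.Hom.comp_appTop, ← Scheme.Hom.comp_appTop, sqP.lift_fst])
    (by rw [IsPushout.inr_isoIsPushout_hom, ← Scheme.Hom.comp_appTop, sqP.lift_snd])
  haveI : IsIso k.appTop := ek ▸ inferInstance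
  haveI : IsIso k := by
    have := Scheme.toSpecΓ_naturality k
    haveI : IsIso (k ≫ (pullback β gV).toSpecΓ) := by rw [this]; infer_instance
    exact IsIso.of_isIso_comp_right k (pullback β gV).toSpecΓ
  rw [← MorphismProperty.isomorphisms.iff, ← (MorphismProperty.isomorphisms Scheme).cancel_left_of_respectsIso
    top.isoPullback.hom, top.isoPullback_hom_snd]
  exact inferInstanceAs (IsIso k)

theorem isAffineHom_of_pullback {X Y Y' : Scheme.{u}} (f : X ⟶ Y) (g : Y' ⟶ Y) [Flat g] [Surjective g]
    [QuasiCompact f] [QuasiSeparated f] [IsAffineHom (pullback.snd f g)] : IsAffineHom f := by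
  refine (isAffineHom_iff f).2 fun U hU => ?_
  haveI : IsAffine U.toScheme := hU
  haveI : CompactSpace (f ⁻¹ᵁ U).toScheme := QuasiCompact.compactSpace_of_compactSpace (f ∣_ U)
  haveI : QuasiSeparated (f ∣_ U) :=
    MorphismProperty.of_isPullback (P := @QuasiSeparated) (isPullback_morphismRestrict f U).flip inferInstance
  haveI : QuasiSeparatedSpace (f ⁻¹ᵁ U).toScheme := quasiSeparatedSpace_of_quasiSeparated (f ∣_ U)
  haveI : Flat (g ∣_ U) := MorphismProperty.of_isPullback (P := @Flat) (isPullback_morphismRestrict g U).flip inferInstance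
  haveI : Surjective (g ∣_ U) :=
    MorphismProperty.of_isPullback (P := @Surjective) (isPullback_morphismRestrict g U).flip inferInstance
  haveI : IsAffineHom (pullback.snd (f ∣_ U) (g ∣_ U)) := by
    have sq := ((IsPullback.of_hasPullback (f ∣_ U) (g ∣_ U)).paste_horiz (IsPullback.id_horiz (f ∣_ U))).paste_horiz
      (isPullback_morphismRestrict f U).flip
    have e : (g ∣_ U ≫ 𝟙 _) ≫ U.ι = (g ⁻¹ᵁ U).ι ≫ g := by rw [Category.comp_id, morphismRestrict_ι]
    rw [e] at sq
    have base := IsPullback.of_hasPullback f g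
    let a := base.lift _ _ (sq.w.trans (Category.assoc _ _ _).symm)
    exact MorphismProperty.of_isPullback (P := @IsAffineHom)
      (IsPullback.of_right (h₁₁ := a) (by rw [base.lift_fst]; exact sq) (base.lift_snd _ _ _) base) inferInstance
  exact isAffine_of_pullback (f ∣_ U) (g ∣_ U)

end FFDescLib
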