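import Groth.Prelude.Def_SGA1
import Mathlib.AlgebraicGeometry.Morphisms.UnderlyingMap
import Mathlib.AlgebraicGeometry.AffineScheme
import Mathlib.CategoryTheory.EffectiveEpi.Basic

/-!
# Effective epimorphisms of schemes from quotient maps
-/

universe u

open AlgebraicGeometry CategoryTheory CategoryTheory.Limits

namespace FFDescLib

variable {S' S Z : Scheme.{u}} (g : S' ⟶ S)

theorem eq_of_comp_eq (hs : Function.Surjective g) (hinj : ∀ U : S.Opens, Function.Injective (g.app U).hom)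
    {a b : S ⟶ Z} (hab : g ≫ a = g ≫ b) : a = b := by
  have hb : a.base = b.base := by
    ext x
    obtain ⟨y, rfl⟩ := hs x
    rw [← Scheme.Hom.comp_apply, hab, Scheme.Hom.comp_apply]
  refine Scheme.Hom.ext hb fun U => ?_
  have hmono : Mono (g.app (b ⁻¹ᵁ U)) := ConcreteCategory.mono_of_injective _ (hinj _)
  rw [← cancel_mono (g.app (b ⁻¹ᵁ U))]
  have h1 := Scheme.Hom.congr_app hab U
  rw [Scheme.Hom.comp_app, Scheme.Hom.comp_app] at h1
  rw [Category.assoc, g.naturality, ← Category.assoc, h1]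
  refine Eq.trans (Category.assoc _ _ _) ?_
  refine Eq.trans (congrArg _ ((Functor.map_comp S'.presheaf _ _).symm.trans
    ((congrArg S'.presheaf.map (Subsingleton.elim _ (𝟙 _))).trans (CategoryTheory.Functor.map_id _ _)))) ?_
  exact Category.comp_id _

theorem injective_app_restrict (hinj : ∀ U : S.Opens, Function.Injective (g.app U).hom) (W : S.Opens)
    (V : W.toScheme.Opens) : Function.Injective ((g ∣_ W).app V).hom := by
  intro s t hst
  apply hinj (W.ι ''ᵁ V)
  rw [morphismRestrict_app] at hst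
  exact (ConcreteCategory.bijective_of_isIso
    (S'.presheaf.map (eqToHom (image_morphismRestrict_preimage g W V)).op)).1 hst

theorem surjective_restrict (hs : Function.Surjective g) (W : S.Opens) : Function.Surjective (g ∣_ W) := fun w => by
  obtain ⟨y, hy⟩ := hs w.1
  refine ⟨⟨y, show g y ∈ W from hy ▸ w.2⟩, Subtype.ext ?_⟩
  exact (congr($(morphismRestrict_ι g W) ⟨y, show g y ∈ W from hy ▸ w.2⟩)).trans hy

variable (hq : Topology.IsQuotientMap g) (hinj : ∀ U : S.Opens, Function.Injective (g.app U).hom)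
  (heq : ∀ (U : S.Opens) (s' : Γ(S', g ⁻¹ᵁ U)), (SGA1.overlapFstApp g U).hom s' = (SGA1.overlapSndApp g U).hom s' →
      s' ∈ Set.range (g.app U).hom)

include hq hinj heq in
theorem exists_desc (h : S' ⟶ Z) (hh : pullback.fst g g ≫ h = pullback.snd g g ≫ h) :
    ∃ m : S ⟶ Z, g ≫ m = h := by
  have hconst : ∀ x x', g x = g x' → h x = h x' := fun x x' e => by
    obtain ⟨z, rfl, rfl⟩ := Scheme.Pullback.exists_preimage_pullback (f := g) (g := g) x x' e
    rw [← Scheme.Hom.comp_apply, hh, Scheme.Hom.comp_apply]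
  choose sec hsec using hq.surjective
  have hu : ∀ x, h (sec (g x)) = h x := fun x => hconst _ _ (hsec _)
  have hopen : ∀ V : Z.Opens, IsOpen {y : S | h (sec y) ∈ V} := fun V => by
    rw [← hq.isOpen_preimage]
    convert V.2.preimage h.continuous using 1
    ext x
    show h (sec (g x)) ∈ V ↔ _
    rw [hu]; rfl
  let U : Z.affineOpens → S.Opens := fun V => ⟨_, hopen V.1⟩
  have hU : ∀ y : S, ∃ V, y ∈ U V := fun y => by
    obtain ⟨V, hV, hy, -⟩ := exists_isAffineOpen_mem_and_subset (X := Z) (x := h (sec y)) (U := ⊤) trivial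
    exact ⟨⟨V, hV⟩, hy⟩
  have hle : ∀ V : Z.affineOpens, g ⁻¹ᵁ U V ≤ h ⁻¹ᵁ V.1 := fun V x hx => by
    have hx' : h (sec (g x)) ∈ V.1 := hx
    rwa [hu] at hx'
  have loc : ∀ V : Z.affineOpens, ∃ m : (U V).toScheme ⟶ Z, (g ∣_ U V) ≫ m = (g ⁻¹ᵁ U V).ι ≫ h := by
    intro V
    haveI : IsAffine V.1.toScheme := V.2
    have hrange : ∀ v, (h.appLE V.1 (g ⁻¹ᵁ U V) (hle V)).hom v ∈ Set.range (g.app (U V)).hom := fun v => by
      apply heq
      rw [← CommRingCat.comp_apply, ← CommRingCat.comp_apply, SGA1.overlapFstApp, SGA1.overlapSndApp,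
        Scheme.Hom.app_eq_appLE, Scheme.Hom.appLE_comp_appLE, Scheme.Hom.appLE_comp_appLE]
      simp only [hh]
    choose ψ hψ using hrange
    let ψ' : Γ(Z, V.1) ⟶ Γ(S, U V) := CommRingCat.ofHom
      { toFun := ψ
        map_one' := hinj _ ((hψ _).trans ((map_one _).trans (map_one _).symm))
        map_mul' := fun a b => hinj _ ((hψ _).trans ((map_mul _ a b).trans ((congrArg₂ (· * ·) (hψ a).symm (hψ b).symm).trans (map_mul _ _ _).symm)))
        map_zero' := hinj _ ((hψ _).trans ((map_zero _).trans (map_zero _).symm))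
        map_add' := fun a b => hinj _ ((hψ _).trans ((map_add _ a b).trans ((congrArg₂ (· + ·) (hψ a).symm (hψ b).symm).trans (map_add _ _ _).symm))) }
    refine ⟨(U V).toSpecΓ ≫ Spec.map ψ' ≫ V.2.fromSpec, ?_⟩
    have hcomp : ψ' ≫ g.app (U V) = h.appLE V.1 (g ⁻¹ᵁ U V) (hle V) := CommRingCat.hom_ext (RingHom.ext hψ)
    rw [← Scheme.Opens.toSpecΓ_naturality_assoc, ← Spec.map_comp_assoc, hcomp,
      Scheme.Opens.toSpecΓ_SpecMap_appLE_assoc]
    refine (congrArg (_ ≫ ·) (IsAffineOpen.toSpecΓ_fromSpec V.2)).trans ?_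
    exact Scheme.Hom.resLE_comp_ι _ _
  choose m hm using loc
  let 𝒰 := S.openCoverOfIsOpenCover U (TopologicalSpace.IsOpenCover.mk
    (eq_top_iff.2 fun y _ => TopologicalSpace.Opens.mem_iSup.2 (hU y)))
  refine ⟨𝒰.glueMorphisms m fun V V' => ?_, ?_⟩
  · show pullback.fst (U V).ι (U V').ι ≫ m V = pullback.snd (U V).ι (U V').ι ≫ m V'
    let W := U V ⊓ U V'
    let q := pullback.fst (U V).ι (U V').ι ≫ (U V).ι
    have hr : Set.range q ⊆ Set.range W.ι := by
      rintro _ ⟨z, rfl⟩
      rw [Scheme.Opens.range_ι]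
      refine ⟨(pullback.fst (U V).ι (U V').ι z).2, ?_⟩
      show q z ∈ U V'
      simp only [q, pullback.condition, Scheme.Hom.comp_apply]
      exact (pullback.snd (U V).ι (U V').ι z).2
    have e1 : pullback.fst (U V).ι (U V').ι = IsOpenImmersion.lift W.ι q hr ≫ S.homOfLE inf_le_left := by
      rw [← cancel_mono (U V).ι, Category.assoc, Scheme.homOfLE_ι, IsOpenImmersion.lift_fac]
    have e2 : pullback.snd (U V).ι (U V').ι = IsOpenImmersion.lift W.ι q hr ≫ S.homOfLE inf_le_right := by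
      rw [← cancel_mono (U V').ι, Category.assoc, Scheme.homOfLE_ι, IsOpenImmersion.lift_fac]
      exact pullback.condition.symm
    rw [e1, e2, Category.assoc, Category.assoc]
    congr 1
    apply eq_of_comp_eq (g ∣_ W) (surjective_restrict g hq.surjective W) (injective_app_restrict g hinj W)
    have e : ∀ V'' : Z.affineOpens, ∀ le : W ≤ U V'', (g ∣_ W) ≫ S.homOfLE le ≫ m V'' = (g ⁻¹ᵁ W).ι ≫ h := by
      intro V'' le
      have e0 : (g ∣_ W) ≫ S.homOfLE le = S'.homOfLE (g.preimage_mono le) ≫ (g ∣_ U V'') := by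
        rw [← cancel_mono (U V'').ι, Category.assoc, Category.assoc, Scheme.homOfLE_ι, morphismRestrict_ι,
          morphismRestrict_ι, Scheme.homOfLE_ι_assoc]
      rw [reassoc_of% e0, hm, Scheme.homOfLE_ι_assoc]
    exact (e _ _).trans (e _ _).symm
  · refine (S'.openCoverOfIsOpenCover (fun V => g ⁻¹ᵁ U V) (TopologicalSpace.IsOpenCover.mk
      (eq_top_iff.2 fun x _ => TopologicalSpace.Opens.mem_iSup.2 (hU (g x))))).hom_ext _ _ fun V => ?_
    show (g ⁻¹ᵁ U V).ι ≫ g ≫ _ = (g ⁻¹ᵁ U V).ι ≫ h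
    rw [← morphismRestrict_ι_assoc]
    refine Eq.trans ?_ (hm V)
    congr 1
    exact 𝒰.ι_glueMorphisms _ _ V

include hq hinj heq in
theorem effectiveEpi : EffectiveEpi g := by
  refine ⟨⟨{ desc := fun e he => (exists_desc g hq hinj heq e (he _ _ pullback.condition)).choose
             fac := fun e he => (exists_desc g hq hinj heq e (he _ _ pullback.condition)).choose_spec
             uniq := fun e he m hm => eq_of_comp_eq g hq.surjective hinj (hm.trans
               (exists_desc g hq hinj heq e (he _ _ pullback.condition)).choose_spec.symm) }⟩⟩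

end FFDescLib
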