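import Groth.Prelude.Def_SGA1
import Mathlib.AlgebraicGeometry.Morphisms.UniversallyOpen
import Mathlib.AlgebraicGeometry.Morphisms.Proper
import Mathlib.AlgebraicGeometry.Morphisms.Immersion
import Mathlib.CategoryTheory.MorphismProperty.Descent

/-!
# Descent along universally submersive morphisms
-/

universe u

open AlgebraicGeometry CategoryTheory CategoryTheory.Limits

namespace FFDescLib

instance : MorphismProperty.IsStableUnderBaseChange SGA1.UnivSubmersive.{u} :=
  MorphismProperty.universally_isStableUnderBaseChange _

theorem isQuotientMap_of_univSubmersive {X Y : Scheme.{u}} {g : X ⟶ Y} (hg : SGA1.UnivSubmersive g) :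
    Topology.IsQuotientMap g :=
  MorphismProperty.universally_le _ g hg

variable {A X Y Z : Scheme.{u}} {fst : A ⟶ X} {snd : A ⟶ Y} {f : X ⟶ Z} {g : Y ⟶ Z}

theorem image_preimage_eq (h : IsPullback fst snd f g) (s : Set Y) : fst '' (snd ⁻¹' s) = f ⁻¹' (g '' s) := by
  ext x
  constructor
  · rintro ⟨a, ha, rfl⟩
    exact ⟨snd a, ha, by rw [← Scheme.Hom.comp_apply, ← h.w, Scheme.Hom.comp_apply]⟩
  · rintro ⟨y, hy, e⟩
    obtain ⟨a, rfl, rfl⟩ := Scheme.exists_preimage_of_isPullback h x y e.symm
    exact ⟨a, hy, rfl⟩

theorem isOpenMap_of_isPullback (h : IsPullback fst snd f g) (hf : Topology.IsQuotientMap f)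
    (hfst : IsOpenMap fst) : IsOpenMap g := fun s hs => by
  rw [← hf.isOpen_preimage, ← image_preimage_eq h]
  exact hfst _ (hs.preimage snd.continuous)

theorem isClosedMap_of_isPullback (h : IsPullback fst snd f g) (hf : Topology.IsQuotientMap f)
    (hfst : IsClosedMap fst) : IsClosedMap g := fun s hs => by
  rw [← hf.isClosed_preimage, ← image_preimage_eq h]
  exact hfst _ (hs.preimage snd.continuous)

theorem universally_descendsAlong (P : MorphismProperty Scheme.{u})
    (H : ∀ {A X Y Z : Scheme.{u}} {fst : A ⟶ X} {snd : A ⟶ Y} {f : X ⟶ Z} {g : Y ⟶ Z},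
      IsPullback fst snd f g → Topology.IsQuotientMap f → P fst → P g) :
    P.universally.DescendsAlong SGA1.UnivSubmersive.{u} where
  of_isPullback {A X Y Z fst snd f g} h hf hfst := by
    intro Y' Z' i j g' hsq
    -- `hsq : IsPullback i g' g j`; base change `f` along `j`
    let f' := pullback.snd f j
    have hf' : SGA1.UnivSubmersive f' := MorphismProperty.pullback_snd f j hf
    have big : IsPullback (pullback.fst f' g') (pullback.snd f' g' ≫ i) (pullback.fst f j ≫ f) g := by
      rw [pullback.condition]
      exact (IsPullback.of_hasPullback f' g').paste_vert hsq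
    let a := h.lift (pullback.fst f' g' ≫ pullback.fst f j) (pullback.snd f' g' ≫ i)
      (by rw [Category.assoc]; exact big.w)
    have small : IsPullback (pullback.fst f' g') a (pullback.fst f j) fst :=
      IsPullback.of_bot (by rw [h.lift_snd]; exact big) (h.lift_fst _ _ _).symm h
    exact H (IsPullback.of_hasPullback f' g') (isQuotientMap_of_univSubmersive hf')
      (hfst _ _ _ small)

instance descendsAlong_universallyOpen :
    MorphismProperty.DescendsAlong (@UniversallyOpen : MorphismProperty Scheme.{u}) SGA1.UnivSubmersive.{u} := by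
  rw [UniversallyOpen.eq]
  exact universally_descendsAlong _ fun h hf hfst => isOpenMap_of_isPullback h hf hfst

instance descendsAlong_universallyClosed :
    MorphismProperty.DescendsAlong (@UniversallyClosed : MorphismProperty Scheme.{u}) SGA1.UnivSubmersive.{u} := by
  rw [universallyClosed_eq]
  exact universally_descendsAlong _ fun h hf hfst => isClosedMap_of_isPullback h hf hfst

theorem isSeparated_of_isPullback (h : IsPullback fst snd f g) (hf : SGA1.UnivSubmersive f)
    [IsSeparated fst] : IsSeparated g := by
  have h2 : MorphismProperty.diagonal (@UniversallyClosed : MorphismProperty Scheme.{u}) fst := by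
    show UniversallyClosed (pullback.diagonal fst)
    infer_instance
  have : MorphismProperty.RespectsIso (@UniversallyClosed : MorphismProperty Scheme.{u}) :=
    universallyClosed_eq ▸ inferInstance
  have : MorphismProperty.DescendsAlong
      (MorphismProperty.diagonal (@UniversallyClosed : MorphismProperty Scheme.{u})) SGA1.UnivSubmersive.{u} :=
    @MorphismProperty.instDescendsAlongDiagonalOfRespectsIsoOfIsStableUnderBaseChange _ _ _
      (@UniversallyClosed : MorphismProperty Scheme.{u}) SGA1.UnivSubmersive.{u} descendsAlong_universallyClosed _ _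
  have h3 : UniversallyClosed (pullback.diagonal g) :=
    MorphismProperty.of_isPullback_of_descendsAlong
      (P := MorphismProperty.diagonal (@UniversallyClosed : MorphismProperty Scheme.{u}))
      (Q := SGA1.UnivSubmersive) h hf h2
  exact ⟨IsClosedImmersion.of_isPreimmersion _ (pullback.diagonal g).isClosedMap.isClosed_range⟩

theorem isPullback_map {S' S X Y : Scheme.{u}} (g : S' ⟶ S) (f : X ⟶ Y) (q : Y ⟶ S) :
    IsPullback (pullback.map (f ≫ q) g q g f (𝟙 S') (𝟙 S) (Category.comp_id _) ((Category.comp_id _).trans (Category.id_comp _).symm))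
      (pullback.fst (f ≫ q) g) (pullback.fst q g) f := by
  refine (IsPullback.of_right (h₁₂ := pullback.snd q g) (v₁₃ := g) (h₂₂ := q) ?_ ?_
    (IsPullback.of_hasPullback q g).flip)
  · rw [pullback.lift_snd, Category.comp_id]
    exact (IsPullback.of_hasPullback (f ≫ q) g).flip
  · exact pullback.lift_fst _ _ _

end FFDescLib
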